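import Groth.Agent.Flat.FreeStrata
import Groth.Agent.Flat.GenericFree

/-! Generic freeness of finitely presented modules over an arbitrary domain. -/

set_option autoImplicit false

noncomputable section

namespace Groth.Agent.FlatGen

universe u

open scoped TensorProduct
open Flat Flat.OpenLocus Flat.GlobalModel Flat.GenericFree

theorem freeAway_fp (R B M : Type u) [CommRing R] [IsDomain R] [CommRing B] [Algebra R B]
    [Algebra.FinitePresentation R B] [AddCommGroup M] [Module R M] [Module B M]
    [IsScalarTower R B M] [Module.FinitePresentation B M] : FreeAway R M := by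
  classical
  obtain ⟨n, π, hπ, hker⟩ := (inferInstance : Algebra.FinitePresentation R B).out
  let P := MvPolynomial (Fin n) R
  letI : Algebra P B := π.toRingHom.toAlgebra
  letI : Module P M := Module.compHom M π.toRingHom
  haveI : IsScalarTower P B M := IsScalarTower.of_algebraMap_smul fun _ _ => rfl
  haveI : IsScalarTower R P M := IsScalarTower.of_algebraMap_smul fun r z => by
    show π (algebraMap R _ r) • z = _
    rw [π.commutes, algebraMap_smul]
  haveI : Module.FinitePresentation P B :=
    Module.finitePresentation_of_surjective (Algebra.linearMap P B) hπ hker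
  haveI : Module.FinitePresentation P M := Module.FinitePresentation.trans (R := P) (M := M) B
  obtain ⟨m, K, e, hK⟩ := Module.FinitePresentation.exists_fin P M
  obtain ⟨k, g, rfl⟩ := Submodule.fg_iff_exists_fin_generating_family.mp hK
  choose Tg hTg using fun l => exists_adjoin_vec (g l)
  let T := Finset.univ.biUnion Tg
  choose g' hg' using fun l => hTg l T (Finset.subset_biUnion_of_mem Tg (Finset.mem_univ l))
  haveI := adj_isNoetherianRing T
  haveI : IsDomain (adj T) := inferInstance
  obtain ⟨f, hf, hfree⟩ := freeAway_of_finite (R := adj T) (MvPolynomial (Fin n) (adj T)) (Coker g')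
  refine ⟨algebraMap (adj T) R f, fun h => hf (Subtype.ext h), fun L _ _ hu => ?_⟩
  haveI := hfree L hu
  exact Module.Free.of_equiv
    ((TensorProduct.AlgebraTensorModule.cancelBaseChange (adj T) R L L (Coker g')).symm.trans
      (TensorProduct.AlgebraTensorModule.congr (LinearEquiv.refl L L)
        ((isBaseChange_cokerMap g' g hg').equiv.trans (e.symm.restrictScalars R))))

end Groth.Agent.FlatGen
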