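import Groth.Agent.FlatGen.Free
import Groth.Agent.FibreDepth.FlatLocusModule
import Mathlib.AlgebraicGeometry.Properties

/-! Generic flatness of finitely presented modules over an integral base. -/

set_option autoImplicit false
set_option backward.isDefEq.respectTransparency false
set_option linter.style.haveILetI false

noncomputable section

namespace Groth.Agent.FlatGen

universe u

open CategoryTheory AlgebraicGeometry TopologicalSpace
open scoped TensorProduct

theorem flatAt_of_flat_away {R S M : Type u} [CommRing R] [CommRing S] [Algebra R S] [AddCommGroup M]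
    [Module R M] [Module S M] [IsScalarTower R S M] (f : R)
    [Module.Flat R (Localization.Away f ⊗[R] M)] (q : Ideal S) [q.IsPrime]
    (hf : algebraMap R S f ∉ q) : Flat.FlatAt.FlatAt R M q := by
  intro P Q _ _ _ _ g hg x hx
  let L := Localization.Away f
  have h1 : Function.Injective ((g.lTensor M).lTensor L) := by
    have h2 := Module.Flat.lTensor_preserves_injective_linearMap (M := L ⊗[R] M) g hg
    rw [LinearMap.lTensor_tensor] at h2
    simp only [LinearMap.coe_comp, LinearEquiv.coe_coe] at h2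
    exact Function.Injective.of_comp_right
      (Function.Injective.of_comp h2) (TensorProduct.assoc R L M P).surjective
  have h3 : (1 : L) ⊗ₜ[R] x = (0 : L ⊗[R] (M ⊗[R] P)) :=
    h1 (by rw [map_zero, LinearMap.lTensor_tmul, hx, TensorProduct.tmul_zero])
  obtain ⟨⟨c, n, rfl⟩, hc⟩ := (IsLocalizedModule.eq_zero_iff (Submonoid.powers f)
    (f := TensorProduct.mk R L (M ⊗[R] P) 1)).mp h3
  refine ⟨algebraMap R S (f ^ n), ?_, ?_⟩
  · rw [map_pow]
    exact fun h => hf (Ideal.IsPrime.mem_of_pow_mem ‹_› n h)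
  · rw [algebraMap_smul]
    exact hc

theorem generic_flatness {X Y : Scheme.{u}} (u : X ⟶ Y) [IsIntegral Y]
    [LocallyOfFinitePresentation u] [QuasiCompact u] (F : X.Modules) (hF : CohB1.IsFP F) :
    ∃ U : Y.Opens, (U : Set Y).Nonempty ∧ ∀ x : X, u.base x ∈ U → FlatMod.IsFlatOverAt u F x := by
  classical
  haveI := FibreDepth.Sections.isQuasicoherent_of_isFP F hF
  obtain ⟨U₀, hU₀, hyU₀, -⟩ :=
    exists_isAffineOpen_mem_and_subset (X := Y) (U := ⊤) (x := genericPoint Y) trivial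
  haveI : Nonempty U₀ := ⟨⟨_, hyU₀⟩⟩
  let ι := {V : X.Opens // IsAffineOpen V ∧ V ≤ u ⁻¹ᵁ U₀ ∧ Module.FinitePresentation Γ(X, V) Γ(F, V)}
  obtain ⟨t, ht⟩ := (u.isCompact_preimage hU₀.isCompact).elim_finite_subcover
    (fun V : ι => (V.1 : Set X)) (fun V => V.1.isOpen) (fun x hx => by
      obtain ⟨O, hxO, hO⟩ := FibreDepth.Sections.exists_affine F hF x
      obtain ⟨V, hV, hxV, hVsub⟩ :=
        exists_isAffineOpen_mem_and_subset (X := X) (U := O ⊓ u ⁻¹ᵁ U₀) (x := x) ⟨hxO, hx⟩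
      exact Set.mem_iUnion.mpr
        ⟨⟨V, hV, fun v hv => (hVsub hv).2, hO V hV fun v hv => (hVsub hv).1⟩, hxV⟩)
  have key : ∀ V : ι, ∃ c : Γ(Y, U₀), c ≠ 0 ∧
      ∀ x ∈ V.1, u.base x ∈ Y.basicOpen c → FlatMod.IsFlatOverAt u F x := by
    rintro ⟨V, hV, hVU, hfp⟩
    letI : Algebra Γ(Y, U₀) Γ(X, V) := (u.appLE U₀ V hVU).hom.toAlgebra
    haveI : Algebra.FinitePresentation Γ(Y, U₀) Γ(X, V) := u.finitePresentation_appLE hU₀ hV hVU
    letI : Module Γ(Y, U₀) Γ(F, V) := Module.compHom _ (algebraMap Γ(Y, U₀) Γ(X, V))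
    haveI : IsScalarTower Γ(Y, U₀) Γ(X, V) Γ(F, V) := IsScalarTower.of_algebraMap_smul fun _ _ => rfl
    haveI := hfp
    obtain ⟨c, hc, hfree⟩ := freeAway_fp Γ(Y, U₀) Γ(X, V) Γ(F, V)
    refine ⟨c, hc, fun x hxV hxc => ?_⟩
    haveI := hfree (Localization.Away c) (IsLocalization.Away.algebraMap_isUnit c)
    haveI : Module.Flat Γ(Y, U₀) (Localization.Away c) :=
      IsLocalization.flat _ (Submonoid.powers c)
    haveI : Module.Flat Γ(Y, U₀) (Localization.Away c ⊗[Γ(Y, U₀)] Γ(F, V)) :=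
      Module.Flat.trans Γ(Y, U₀) (Localization.Away c) _
    rw [FibreDepth.FlatLocusModule.flatAt_iff u F hU₀ hV hVU rfl x hxV]
    refine flatAt_of_flat_away c _ ?_
    have h1 : x ∈ X.basicOpen (algebraMap Γ(Y, U₀) Γ(X, V) c) := by
      show x ∈ X.basicOpen ((u.appLE U₀ V hVU).hom c)
      rw [Scheme.basicOpen_appLE]
      exact ⟨hxV, hxc⟩
    have h2 : hV.primeIdealOf ⟨x, hxV⟩ ∈ hV.fromSpec ⁻¹ᵁ X.basicOpen (algebraMap Γ(Y, U₀) Γ(X, V) c) := by
      show hV.fromSpec (hV.primeIdealOf ⟨x, hxV⟩) ∈ X.basicOpen (algebraMap Γ(Y, U₀) Γ(X, V) c)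
      rw [hV.fromSpec_primeIdealOf]
      exact h1
    rw [hV.fromSpec_preimage_basicOpen] at h2
    exact h2
  choose c hc hflat using key
  refine ⟨Y.basicOpen (∏ V ∈ t, c V), ?_, fun x hx => ?_⟩
  · rw [Set.nonempty_iff_ne_empty, Ne, Opens.coe_eq_empty, basicOpen_eq_bot_iff]
    exact Finset.prod_ne_zero_iff.mpr fun V _ => hc V
  · obtain ⟨V, hVt, hxV⟩ := Set.mem_iUnion₂.mp (ht (Y.basicOpen_le _ hx))
    refine hflat V x hxV ?_
    obtain ⟨d, hd⟩ := Finset.dvd_prod_of_mem c hVt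
    rw [hd, Scheme.basicOpen_mul] at hx
    exact hx.1

end Groth.Agent.FlatGen
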